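import Mathlib
import Cfsg.Prelude.Def_Classical
import Cfsg.Agent.Helper43.SpRegSig
import Cfsg.Agent.S0246

/-!
# S2512 (helper11): definitions shared by the pieces

`PSp_{2n}(q)^3 × 2^m` has the same spectrum as `PSp_{2n}(q)^3`, `q` odd.
`adj` is `Cfsg.Agent.Helper43.SpReg.adj` (`adj g = -J * gᵀ * J`, the adjoint for the standard alternating form);
`negOne` is `Cfsg.Agent.S0246.negOne`.
-/

set_option autoImplicit false

namespace Cfsg.Agent.Helper11.Spec5

open Matrix Polynomial Cfsg.Agent.Helper43.SpReg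

/-- `Sp_{2n}(F)` -/
abbrev Sp (n : ℕ) (F : Type*) [Field F] := ↥(Matrix.symplecticGroup (Fin n) F)

/-- `2n × 2n` matrices -/
abbrev Mat (n : ℕ) (F : Type*) := Matrix (Fin n ⊕ Fin n) (Fin n ⊕ Fin n) F

/-- the odd one of the two numbers `(q^n + 1)/2`, `(q^n - 1)/2` (`q` odd): the order of the cyclic maximal torus of
`PSp_{2n}(q)` with odd order. -/
def cP (q n : ℕ) : ℕ := if q ^ n % 4 = 1 then (q ^ n + 1) / 2 else (q ^ n - 1) / 2

/-- `V` has no proper nondegenerate `x`-invariant subspace: the only self-adjoint idempotents commuting with `x` are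
`0` and `1`. -/
def Indec {n : ℕ} {F : Type*} [Field F] (x : Mat n F) : Prop :=
  ∀ e : Mat n F, e * e = e → adj e = e → e * x = x * e → e = 0 ∨ e = 1

/-- the semisimple element `s` is homogeneous: its minimal polynomial is irreducible, or the product of two coprime
irreducible polynomials `f`, `h` whose kernels `ker f(s) = im h(s)` and `ker h(s) = im f(s)` are totally isotropic
(`B(Av, Aw) = B(v, adj A * A w)`). -/
def Dich {n : ℕ} {F : Type*} [Field F] (s : Mat n F) : Prop :=
  Irreducible (minpoly F s) ∨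
    ∃ f h : F[X], Irreducible f ∧ Irreducible h ∧ IsCoprime f h ∧ minpoly F s = f * h ∧
      adj (aeval s f) * aeval s f = 0 ∧ adj (aeval s h) * aeval s h = 0

end Cfsg.Agent.Helper11.Spec5
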