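import Cfsg.Agent.Helper11.Spec5.Defs
import Cfsg.Agent.Helper38.SpBlock
import Cfsg.Agent.Helper38.SpTorus

/-!
# S2512 (helper11): the pieces (TP) and (EMB), from helper38's library
-/

set_option autoImplicit false

namespace Cfsg.Agent.Helper11.Spec5

open Matrix Polynomial Cfsg.Agent.Helper43.SpReg Cfsg.Agent.S0246

variable {F : Type*} [Field F]

/-- (TP) -/
theorem torus_plus [Fintype F] (e : ℕ) (he : 1 ≤ e) :
    ∃ g : Sp e F, orderOf g = Fintype.card F ^ e + 1 :=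
  Cfsg.Agent.Helper38.exists_sp_orderOf_of_dvd_pow_add_one e he _ dvd_rfl

/-- (EMB) -/
theorem exists_block_hom (a b : ℕ) :
    ∃ ι : Sp a F × Sp b F →* Sp (a + b) F, Function.Injective ι ∧
      ι (negOne a F, negOne b F) = negOne (a + b) F := by
  refine ⟨Cfsg.Agent.Helper38.spBlock (F := F) (rfl : a + b = a + b),
    Cfsg.Agent.Helper38.spBlock_injective rfl, ?_⟩
  apply Subtype.ext
  show Cfsg.Agent.Helper38.blockSum (Cfsg.Agent.Helper38.spEquiv rfl)
    ((-1 : Matrix (Fin a ⊕ Fin a) (Fin a ⊕ Fin a) F), (-1 : Matrix (Fin b ⊕ Fin b) (Fin b ⊕ Fin b) F)) = -1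
  show Matrix.reindex _ _ (Matrix.fromBlocks (-1 : Matrix (Fin a ⊕ Fin a) (Fin a ⊕ Fin a) F) 0 0
    (-1 : Matrix (Fin b ⊕ Fin b) (Fin b ⊕ Fin b) F)) = -1
  have h1 : Matrix.fromBlocks (-1 : Matrix (Fin a ⊕ Fin a) (Fin a ⊕ Fin a) F) 0 0
      (-1 : Matrix (Fin b ⊕ Fin b) (Fin b ⊕ Fin b) F) = -1 := by
    ext i j
    rcases i with i | i <;> rcases j with j | j <;> simp [Matrix.one_apply]
  rw [h1, Matrix.reindex_apply]
  ext i j
  simp [Matrix.one_apply]

end Cfsg.Agent.Helper11.Spec5
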