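import Cfsg.Agent.Helper11.Spec5.Defs
import Cfsg.Agent.Helper11.Spec5.Easy
import Cfsg.Agent.Helper10.Spec5A
import Cfsg.Agent.Helper10.Spec5DI
import Cfsg.Agent.Helper10.Spec5L2
import Cfsg.Agent.Helper10.Spec5PO
import Cfsg.Agent.Helper12.Spec5BLK
import Cfsg.Agent.Helper12.Spec5TM
import Cfsg.Agent.Helper42.Spec5AR
import Cfsg.Agent.Helper42.Spec5L1
import Cfsg.Agent.Helper50.Spec5GEN
import Cfsg.Agent.Helper50.Spec5MAT
import Cfsg.Agent.Helper60.Spec5RU
import Cfsg.Agent.Helper60.Spec5T1a
import Cfsg.Agent.Helper67.Spec5T2a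
import Cfsg.Agent.Helper22.Spec4A3
import Cfsg.Agent.Helper22.Spec4A4
import Cfsg.Agent.Helper20.Spec4C0

/-!
# S2512 (helper11): the assembly.  The pieces were proved by the seats named in the imports.

`PSp_{2n}(q)^3 x 2^m` has the spectrum of `PSp_{2n}(q)^3` (`q` odd, `n ≥ 2`), and the same for two factors when
`2n - 1` is not a power of `p`.

The pieces were farmed on the board (WANTED #11007): (A1) (A2) (PO) (L2) (DI) helper10; (AR) (L1) helper42; (TM) (BLK) helper12;
(GEN) (MAT) helper50; (RU) (T1a) helper60; (T2a) helper67; (TP) (EMB) `Easy.lean` from helper38's library.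
`adj` is `Cfsg.Agent.Helper43.SpReg.adj` (`adj g = -J * gᵀ * J`).
-/

set_option autoImplicit false

namespace Cfsg.Agent.Helper11.Spec5Main

open Matrix Polynomial Cfsg.Agent.Helper43.SpReg Cfsg.Agent.Helper11.Spec5 Cfsg.Agent.S0246 Cfsg.Agent.Helper10.Spec5 Cfsg.Agent.Helper12.Spec5 Cfsg.Agent.Helper42.Spec5 Cfsg.Agent.Helper50.Spec5 Cfsg.Agent.Helper60.Spec5 Cfsg.Agent.Helper67.Spec5

/-! ## Abstract group-level pieces -/

section abstract

variable {L : Type*} [Group L] [Finite L]

end abstract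

/-! ## Arithmetic -/

/-! ## Matrix pieces -/

section mat

variable {F : Type*} [Field F] {ι : Type*} [Fintype ι] [DecidableEq ι]

end mat

/-! ## Symplectic pieces -/

section sp

variable {F : Type*} [Field F] [Fintype F] {n : ℕ}

/-- a matrix vanishing on every vector is zero -/
theorem mat_eq_zero_of_mulVec {ι : Type*} [Fintype ι] [DecidableEq ι] (M : Matrix ι ι F)
    (h : ∀ v : ι → F, M.mulVec v = 0) : M = 0 := by
  have : Matrix.toLin' M = 0 := by
    apply LinearMap.ext
    intro v
    rw [Matrix.toLin'_apply, h v]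
    rfl
  have h2 := congrArg LinearMap.toMatrix' this
  simpa using h2

/-- (ST) structure of the centralizer of a homogeneous semisimple element (assembly). -/
theorem structure_mixed (hn : 1 ≤ n) (s u : Mat n F) (hs : s ∈ symplecticGroup (Fin n) F)
    (hcomm : s * u = u * s) (m : ℕ) (hm : (m : F) ≠ 0)
    (hmodd : Odd m) (hsm : s ^ m = 1) (hnil : IsNilpotent (u - 1)) (hD : Dich s) :
    s = 1 ∨ ∃ e' k : ℕ, e' * k = n ∧
      (s ^ (Fintype.card F ^ e' + 1) = 1 ∨ s ^ (Fintype.card F ^ e' - 1) = 1) ∧ (u - 1) ^ k = 0 := by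
  by_cases hs1 : s = 1
  · exact Or.inl hs1
  right
  rcases hD with hirr | ⟨f, h, hf, hh, hcop, hmin, hfi, hhi⟩
  · -- type I
    obtain ⟨e', hdeg, hord⟩ := selfdual_order hn s hs m hmodd hsm hirr hs1
    obtain ⟨hdvd, hvan⟩ := nilpotent_pow_on_ker s u hcomm hnil (minpoly F s) hirr
    have hzero : aeval s (minpoly F s) = 0 := minpoly.aeval F s
    have hker : Module.finrank F (LinearMap.ker (Matrix.toLin' (aeval s (minpoly F s)))) = 2 * n := by
      rw [hzero]
      have : LinearMap.ker (Matrix.toLin' (0 : Mat n F)) = ⊤ := by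
        rw [map_zero]; exact LinearMap.ker_zero
      rw [this, finrank_top, Module.finrank_fintype_fun_eq_card, Fintype.card_sum, Fintype.card_fin]
      ring
    rw [hker, hdeg] at hdvd hvan
    have he'pos : 0 < e' := by
      rcases Nat.eq_zero_or_pos e' with h0 | h0
      · exfalso
        rw [h0, mul_zero] at hdeg
        have := hirr.natDegree_pos
        omega
      · exact h0
    obtain ⟨k, hk⟩ : e' ∣ n := by
      obtain ⟨c, hc⟩ := hdvd
      exact ⟨c, by nlinarith⟩
    refine ⟨e', k, hk.symm, Or.inl hord, ?_⟩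
    apply mat_eq_zero_of_mulVec
    intro v
    have h1 := hvan v (by rw [hzero]; simp)
    have h2 : 2 * n / (2 * e') = k := by
      rw [hk, show 2 * (e' * k) = (2 * e') * k by ring]
      exact Nat.mul_div_cancel_left _ (by omega)
    rwa [h2] at h1
  · -- type II
    obtain ⟨d, hdf, hdh, hkf, hkh, hord⟩ :=
      pair_order hn s hs m hm hsm f h hf hh hcop hmin hfi hhi
    obtain ⟨hdvdf, hvanf⟩ := nilpotent_pow_on_ker s u hcomm hnil f hf
    obtain ⟨hdvdh, hvanh⟩ := nilpotent_pow_on_ker s u hcomm hnil h hh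
    rw [hkf, hdf] at hdvdf hvanf
    rw [hkh, hdh] at hdvdh hvanh
    obtain ⟨k, hk⟩ := hdvdf
    have hdpos : 0 < d := by
      rcases Nat.eq_zero_or_pos d with h0 | h0
      · exfalso
        rw [h0, zero_mul] at hk
        omega
      · exact h0
    have hnd : n / d = k := by rw [hk]; exact Nat.mul_div_cancel_left _ hdpos
    rw [hnd] at hvanf hvanh
    refine ⟨d, k, hk.symm, Or.inr hord, ?_⟩
    obtain ⟨a, b, hab⟩ := hcop
    have hone : aeval s (a * f) + aeval s (b * h) = 1 := by
      rw [← map_add, hab, map_one]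
    have hg : aeval s (f * h) = 0 := by rw [← hmin]; exact minpoly.aeval F s
    apply mat_eq_zero_of_mulVec
    intro v
    have hv : v = (aeval s (a * f)).mulVec v + (aeval s (b * h)).mulVec v := by
      rw [← Matrix.add_mulVec, hone, Matrix.one_mulVec]
    have h1 : (aeval s h).mulVec ((aeval s (a * f)).mulVec v) = 0 := by
      rw [Matrix.mulVec_mulVec, ← map_mul, show h * (a * f) = a * (f * h) by ring, map_mul, hg,
        mul_zero, Matrix.zero_mulVec]
    have h2 : (aeval s f).mulVec ((aeval s (b * h)).mulVec v) = 0 := by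
      rw [Matrix.mulVec_mulVec, ← map_mul, show f * (b * h) = b * (f * h) by ring, map_mul, hg,
        mul_zero, Matrix.zero_mulVec]
    rw [hv, Matrix.mulVec_add, hvanh _ h1, hvanf _ h2, add_zero]

/-! ## Assembly -/

theorem exists_orderOf_of_dvd {G : Type*} [Group G] (g : G) (hpos : 0 < orderOf g) (k : ℕ)
    (hk : k ∣ orderOf g) : ∃ h : G, orderOf h = k := by
  have hk0 : 0 < k := Nat.pos_of_dvd_of_pos hk hpos
  refine ⟨g ^ (orderOf g / k), ?_⟩
  rw [orderOf_pow_of_dvd (Nat.div_pos (Nat.le_of_dvd hpos hk) hk0).ne' (Nat.div_dvd_of_dvd hk),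
    Nat.div_div_self hk hpos.ne']

theorem exists_double_block {p : ℕ} [Fact p.Prime] [CharP F p] (h2 : (2 : F) ≠ 0) (hpodd : Odd p)
    (e' : ℕ) (he1 : 1 ≤ e') (hen : e' < n) (k' t : ℕ) (hk : Odd k')
    (hdiv : k' ∣ Fintype.card F ^ e' + 1 ∨ k' ∣ Fintype.card F ^ e' - 1)
    (hcop : Nat.Coprime k' p) (ht : t = 0 ∨ p ^ (t - 1) < 2 * (n - e')) :
    ∃ y : Cfsg.PSp n F, orderOf y = 2 * (p ^ t * k') := by
  obtain ⟨b, rfl⟩ : ∃ b, n = e' + b := ⟨n - e', by omega⟩
  have hb : 1 ≤ b := by omega
  obtain ⟨ι, hinj, hneg⟩ := exists_block_hom (F := F) e' b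
  have hs₁ : ∃ s₁ : Sp e' F, orderOf s₁ = k' := by
    rcases hdiv with h | h
    · obtain ⟨g, hg⟩ := torus_plus (F := F) e' he1
      exact exists_orderOf_of_dvd g (orderOf_pos g) k' (hg ▸ h)
    · obtain ⟨g, hg⟩ := torus_minus (F := F) e' he1
      exact exists_orderOf_of_dvd g (orderOf_pos g) k' (hg ▸ h)
  obtain ⟨s₁, hs₁⟩ := hs₁
  have ht' : t = 0 ∨ p ^ (t - 1) < 2 * b := by
    rcases ht with h | h
    · left; exact h
    · right; rwa [Nat.add_sub_cancel_left] at h
  obtain ⟨u₂, hu₂⟩ := unipotent_exists (F := F) (p := p) b hb t ht'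
  exact ⟨_, orderOf_block e' b he1 hb h2 ι hinj hneg s₁ u₂ k' (p ^ t) hk (hpodd.pow)
    (Nat.Coprime.pow_right t hcop) hs₁ hu₂⟩

/-- the element-wise statement. -/
theorem odd_element {p a : ℕ} (hp : p.Prime) (ha : 1 ≤ a) (hF : Fintype.card F = p ^ a)
    (hodd : Odd (Fintype.card F)) (hn : 2 ≤ n) (w : Cfsg.PSp n F) (hw : Odd (orderOf w)) :
    (∃ y : Cfsg.PSp n F, orderOf y = 2 * orderOf w) ∨ orderOf w ∣ cP (Fintype.card F) n ∨
      ∃ j : ℕ, 2 * n - 1 = p ^ j ∧ orderOf w = p ^ (j + 1) := by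
  classical
  haveI : Fact p.Prime := ⟨hp⟩
  haveI : CharP F p := Cfsg.Agent.Helper20.Spec4.charP_of_card hp ha hF
  have hp2 : p ≠ 2 := by
    rintro rfl
    rw [hF] at hodd
    exact (Nat.not_even_iff_odd.mpr hodd) (Nat.even_pow.mpr ⟨even_two, by omega⟩)
  have hpodd : Odd p := hp.odd_of_ne_two hp2
  have h2F : (2 : F) ≠ 0 := by
    intro h
    have h' : ((2 : ℕ) : F) = 0 := by exact_mod_cast h
    have hd : p ∣ 2 := (CharP.cast_eq_zero_iff F p 2).mp h'
    exact hp2 ((Nat.prime_dvd_prime_iff_eq hp Nat.prime_two).mp hd)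
  have hn1 : 1 ≤ n := by omega
  obtain ⟨x, hxw, hxo⟩ := lift_odd hn1 w hw
  rw [← hxo] at hw ⊢
  by_cases hdec : ∃ e : Mat n F, e * e = e ∧ adj e = e ∧ e * (x : Mat n F) = (x : Mat n F) * e ∧
      e ≠ 0 ∧ e ≠ 1
  · obtain ⟨e, h1, h2, h3, h4, h5⟩ := hdec
    exact Or.inl (double_of_idempotent hn1 h2F x hw e h1 h2 h4 h5 h3)
  have hind : Indec (x : Mat n F) := by
    intro e h1 h2 h3
    by_contra hne
    exact hdec ⟨e, h1, h2, h3, fun h => hne (Or.inl h), fun h => hne (Or.inr h)⟩
  have hMpos : 0 < orderOf x := orderOf_pos x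
  obtain ⟨t, k', hpk, hMk⟩ := Nat.exists_eq_pow_mul_and_not_dvd hMpos.ne' p hp.ne_one
  have hk'odd : Odd k' := by
    rw [hMk] at hw
    exact (Nat.odd_mul.mp hw).2
  have hk'F : ((k' : ℕ) : F) ≠ 0 := by
    intro h
    exact hpk ((CharP.cast_eq_zero_iff F p k').mp h)
  have hcop : Nat.Coprime k' p := ((Nat.Prime.coprime_iff_not_dvd hp).mpr hpk).symm
  have hqodd := hodd
  -- polynomials in a power of `x` commute with `x`
  have hpoly : ∀ (j : ℕ) (P : F[X]),
      aeval ((x : Mat n F) ^ j) P * aeval ((x : Mat n F) ^ j) P = aeval ((x : Mat n F) ^ j) P →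
      adj (aeval ((x : Mat n F) ^ j) P) = aeval ((x : Mat n F) ^ j) P →
      aeval ((x : Mat n F) ^ j) P = 0 ∨ aeval ((x : Mat n F) ^ j) P = 1 := by
    intro j P h1 h2
    apply hind _ h1 h2
    exact ((commute_aeval (x : Mat n F) ((x : Mat n F) ^ j) (Commute.pow_right (Commute.refl _) j) P)).symm.eq
  rcases Nat.eq_zero_or_pos t with ht0 | htpos
  · -- semisimple case
    rw [ht0, pow_zero, one_mul] at hMk
    have hxk : (x : Mat n F) ^ k' = 1 := by
      have : x ^ k' = 1 := by rw [← hMk]; exact pow_orderOf_eq_one x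
      have := congrArg (fun g : Sp n F => (g : Mat n F)) this
      simpa using this
    have hD : Dich (x : Mat n F) := by
      have h := dichotomy hn1 ((x : Mat n F) ^ 1) (by rw [pow_one]; exact x.2) k' hk'F
        (by rw [pow_one]; exact hxk) (hpoly 1)
      rwa [pow_one] at h
    have hnil1 : IsNilpotent ((1 : Mat n F) - 1) := by rw [sub_self]; exact IsNilpotent.zero
    rcases structure_mixed hn1 (x : Mat n F) 1 x.2 (by rw [mul_one, one_mul]) k' hk'F hk'odd hxk
      hnil1 hD with hx1 | ⟨e', k, hek, htor, -⟩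
    · right; left
      have : x = 1 := Subtype.ext (by simpa using hx1)
      rw [this, orderOf_one]
      exact one_dvd _
    have he1 : 1 ≤ e' := by
      rcases Nat.eq_zero_or_pos e' with h | h
      · rw [h, zero_mul] at hek; omega
      · exact h
    have hdiv : k' ∣ Fintype.card F ^ e' + 1 ∨ k' ∣ Fintype.card F ^ e' - 1 := by
      rcases htor with h | h
      · left
        rw [← hMk]
        apply orderOf_dvd_of_pow_eq_one
        apply Subtype.ext
        simpa using h
      · right
        rw [← hMk]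
        apply orderOf_dvd_of_pow_eq_one
        apply Subtype.ext
        simpa using h
    by_cases hen : e' = n
    · rw [hen] at hdiv
      rcases dvd_cases (Fintype.card F) n k' hqodd hk'odd hdiv with h | h | h
      · right; left; rw [hMk]; exact h
      · left
        obtain ⟨g, hg⟩ := torus_plus (F := F) n hn1
        have hev : Even (Fintype.card F ^ n + 1) := (hqodd.pow).add_one
        obtain ⟨y₀, hy₀⟩ := exists_half_order hn1 g _ hev hg
        rw [hMk]
        exact exists_orderOf_of_dvd y₀ (orderOf_pos y₀) (2 * k') (hy₀ ▸ h)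
      · left
        obtain ⟨g, hg⟩ := torus_minus (F := F) n hn1
        have hev : Even (Fintype.card F ^ n - 1) :=
          Nat.Odd.sub_odd (hqodd.pow (n := n)) odd_one
        obtain ⟨y₀, hy₀⟩ := exists_half_order hn1 g _ hev hg
        rw [hMk]
        exact exists_orderOf_of_dvd y₀ (orderOf_pos y₀) (2 * k') (hy₀ ▸ h)
    · left
      have hlt : e' < n := by
        have hle : e' ≤ n := Nat.le_of_dvd (by omega) (Dvd.intro k hek)
        omega
      obtain ⟨y, hy⟩ := exists_double_block (n := n) (p := p) h2F hpodd e' he1 hlt k' 0 hk'odd hdiv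
        hcop (Or.inl rfl)
      exact ⟨y, by rw [hy, hMk, pow_zero, one_mul]⟩
  · -- mixed case
    have hptpos : 0 < p ^ t := pow_pos hp.pos t
    have hk'pos : 0 < k' := by
      rcases Nat.eq_zero_or_pos k' with h | h
      · rw [h, mul_zero] at hMk; omega
      · exact h
    have hos : orderOf (x ^ p ^ t) = k' := by
      rw [orderOf_pow_of_dvd hptpos.ne' (hMk ▸ Dvd.intro _ rfl), hMk, Nat.mul_div_cancel_left _ hptpos]
    have hou : orderOf (x ^ k') = p ^ t := by
      rw [orderOf_pow_of_dvd hk'pos.ne' (hMk ▸ Dvd.intro_left _ rfl), hMk, Nat.mul_div_cancel _ hk'pos]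
    have hsk : ((x ^ p ^ t : Sp n F) : Mat n F) ^ k' = 1 := by
      have : (x ^ p ^ t) ^ k' = 1 := by rw [← hos]; exact pow_orderOf_eq_one _
      have := congrArg (fun g : Sp n F => (g : Mat n F)) this
      simpa using this
    have hupt : ((x ^ k' : Sp n F) : Mat n F) ^ p ^ t = 1 := by
      have : (x ^ k') ^ p ^ t = 1 := by rw [← hou]; exact pow_orderOf_eq_one _
      have := congrArg (fun g : Sp n F => (g : Mat n F)) this
      simpa using this
    have hscoe : ((x ^ p ^ t : Sp n F) : Mat n F) = (x : Mat n F) ^ p ^ t := by simp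
    have hD : Dich ((x ^ p ^ t : Sp n F) : Mat n F) := by
      rw [hscoe]
      apply dichotomy hn1 ((x : Mat n F) ^ p ^ t) (by rw [← hscoe]; exact (x ^ p ^ t).2) k' hk'F
        (by rw [← hscoe]; exact hsk) (hpoly (p ^ t))
    have hcomm : ((x ^ p ^ t : Sp n F) : Mat n F) * ((x ^ k' : Sp n F) : Mat n F)
        = ((x ^ k' : Sp n F) : Mat n F) * ((x ^ p ^ t : Sp n F) : Mat n F) := by
      have : x ^ p ^ t * x ^ k' = x ^ k' * x ^ p ^ t := by
        rw [← pow_add, ← pow_add, add_comm]
      have := congrArg (fun g : Sp n F => (g : Mat n F)) this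
      simpa using this
    have hnil := (nilpotent_of_pow (p := p) ((x ^ k' : Sp n F) : Mat n F) t hupt).1
    have houM : orderOf ((x ^ k' : Sp n F) : Mat n F) = p ^ t := by
      rw [← hou]
      exact orderOf_injective (Submonoid.subtype (symplecticGroup (Fin n) F)) Subtype.coe_injective
        (x ^ k')
    rcases structure_mixed hn1 _ _ (x ^ p ^ t).2 hcomm k' hk'F hk'odd hsk hnil hD with
      hs1 | ⟨e', k, hek, htor, hNk⟩
    · -- unipotent
      have hs1' : x ^ p ^ t = 1 := Subtype.ext (by simpa using hs1)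
      have hk1 : k' = 1 := by rw [← hos, hs1', orderOf_one]
      rw [hk1, mul_one] at hMk
      have hNn := (nilpotent_of_pow (p := p) ((x ^ k' : Sp n F) : Mat n F) t hupt).2
      have hbound : p ^ (t - 1) < 2 * n := by
        have := pow_lt_of_nilpotent (p := p) ((x ^ k' : Sp n F) : Mat n F) _ t htpos houM hNn
        simpa [Fintype.card_sum, two_mul] using this
      by_cases hlt : p ^ (t - 1) < 2 * (n - 1)
      · left
        obtain ⟨y, hy⟩ := exists_double_block (n := n) (p := p) h2F hpodd 1 le_rfl (by omega) 1 t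
          odd_one (Or.inl (one_dvd _)) (Nat.coprime_one_left p) (Or.inr hlt)
        exact ⟨y, by rw [hy, hMk, mul_one]⟩
      · right; right
        refine ⟨t - 1, ?_, ?_⟩
        · have hoddpow : Odd (p ^ (t - 1)) := hpodd.pow
          obtain ⟨r, hr⟩ := hoddpow
          omega
        · rw [hMk, Nat.sub_add_cancel htpos]
    · -- homogeneous, `k ≥ 2`
      left
      have hlt : p ^ (t - 1) < k :=
        pow_lt_of_nilpotent (p := p) ((x ^ k' : Sp n F) : Mat n F) k t htpos houM hNk
      have hk2 : 2 ≤ k := by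
        have : 1 ≤ p ^ (t - 1) := Nat.one_le_pow _ _ hp.pos
        omega
      have he1 : 1 ≤ e' := by
        rcases Nat.eq_zero_or_pos e' with h | h
        · rw [h, zero_mul] at hek; omega
        · exact h
      have hen : e' < n := by
        rw [← hek]
        nlinarith
      have hdiv : k' ∣ Fintype.card F ^ e' + 1 ∨ k' ∣ Fintype.card F ^ e' - 1 := by
        rcases htor with h | h
        · left
          rw [← hos]
          apply orderOf_dvd_of_pow_eq_one
          apply Subtype.ext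
          simpa using h
        · right
          rw [← hos]
          apply orderOf_dvd_of_pow_eq_one
          apply Subtype.ext
          simpa using h
      have hlt2 : p ^ (t - 1) < 2 * (n - e') := by
        have h1 : n - e' = e' * (k - 1) := by
          rw [← hek, Nat.mul_sub, mul_one]
        rw [h1]
        have h2 : k - 1 ≤ e' * (k - 1) := Nat.le_mul_of_pos_left _ he1
        omega
      obtain ⟨y, hy⟩ := exists_double_block (n := n) (p := p) h2F hpodd e' he1 hen k' t hk'odd hdiv
        hcop (Or.inr hlt2)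
      exact ⟨y, by rw [hy, hMk]⟩

/-- the statement of S2512. -/
theorem main (p a m : ℕ) (hp : p.Prime) (ha : 1 ≤ a) (hF : Fintype.card F = p ^ a)
    (hodd : Odd (Fintype.card F)) (hn : 2 ≤ n) :
    Set.range (orderOf : Cfsg.PSp n F × Cfsg.PSp n F × Cfsg.PSp n F ×
        Multiplicative (Fin m → ZMod 2) → ℕ) =
      Set.range (orderOf : Cfsg.PSp n F × Cfsg.PSp n F × Cfsg.PSp n F → ℕ) ∧
    ((¬ ∃ j : ℕ, 2 * n - 1 = p ^ j) →
      Set.range (orderOf : Cfsg.PSp n F × Cfsg.PSp n F × Multiplicative (Fin m → ZMod 2) → ℕ) =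
        Set.range (orderOf : Cfsg.PSp n F × Cfsg.PSp n F → ℕ)) := by
  classical
  haveI : Fact p.Prime := ⟨hp⟩
  haveI : CharP F p := Cfsg.Agent.Helper20.Spec4.charP_of_card hp ha hF
  have hp2 : p ≠ 2 := by
    rintro rfl
    rw [hF] at hodd
    exact (Nat.not_even_iff_odd.mpr hodd) (Nat.even_pow.mpr ⟨even_two, by omega⟩)
  have hpodd : Odd p := hp.odd_of_ne_two hp2
  have h2F : (2 : F) ≠ 0 := by
    intro h
    have h' : ((2 : ℕ) : F) = 0 := by exact_mod_cast h
    have hd : p ∣ 2 := (CharP.cast_eq_zero_iff F p 2).mp h'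
    exact hp2 ((Nat.prime_dvd_prime_iff_eq hp Nat.prime_two).mp hd)
  have hn1 : 1 ≤ n := by omega
  have hI : ∃ d : Cfsg.PSp n F, orderOf d = 2 := by
    obtain ⟨y, hy⟩ := exists_double_block (n := n) (p := p) h2F hpodd 1 le_rfl (by omega) 1 0
      odd_one (Or.inl (one_dvd _)) (Nat.coprime_one_left p) (Or.inl rfl)
    exact ⟨y, by rw [hy]; norm_num⟩
  have hS : ∃ w : Cfsg.PSp n F, orderOf w = cP (Fintype.card F) n := by
    unfold cP
    split_ifs with h
    · obtain ⟨g, hg⟩ := torus_plus (F := F) n hn1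
      exact exists_half_order hn1 g _ ((hodd.pow).add_one) hg
    · obtain ⟨g, hg⟩ := torus_minus (F := F) n hn1
      have hev : Even (Fintype.card F ^ n - 1) :=
        Nat.Odd.sub_odd (hodd.pow (n := n)) odd_one
      exact exists_half_order hn1 g _ hev hg
  refine ⟨?_, ?_⟩
  · -- three factors
    by_cases hex : ∃ j : ℕ, 2 * n - 1 = p ^ j
    · obtain ⟨j₀, hj₀⟩ := hex
      apply Cfsg.Agent.Helper22.Spec4.range_eq_three Nat.prime_two
      intro x y z hxyz
      apply part1_core (c := cP (Fintype.card F) n) (E := p ^ (j₀ + 1)) _ hS hI x y z hxyz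
      intro w hw
      rcases odd_element hp ha hF hodd hn w hw with h | h | ⟨j, hj, hjw⟩
      · exact Or.inl h
      · exact Or.inr (Or.inl h)
      · right; right
        have : j = j₀ := Nat.pow_right_injective hp.two_le (show p ^ j = p ^ j₀ by rw [← hj, ← hj₀])
        rw [hjw, this]
    · apply Cfsg.Agent.Helper22.Spec4.range_eq_three Nat.prime_two
      intro x y z hxyz
      apply part1_core (c := cP (Fintype.card F) n) (E := 0) _ hS hI x y z hxyz
      intro w hw
      rcases odd_element hp ha hF hodd hn w hw with h | h | ⟨j, hj, hjw⟩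
      · exact Or.inl h
      · exact Or.inr (Or.inl h)
      · exact absurd ⟨j, hj⟩ hex
  · intro hex
    apply Cfsg.Agent.Helper22.Spec4.range_eq_two Nat.prime_two
    intro x y hxy
    apply part2_core (c := cP (Fintype.card F) n) _ hS hI x y hxy
    intro w hw
    rcases odd_element hp ha hF hodd hn w hw with h | h | ⟨j, hj, hjw⟩
    · exact Or.inl h
    · exact Or.inr h
    · exact absurd ⟨j, hj⟩ hex

end sp

end Cfsg.Agent.Helper11.Spec5Main
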